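import Cfsg.Agent.H691.L34.Def

/-!
# S5917: triangular matrices of `SL₃` (helper475)
-/

set_option autoImplicit false
set_option linter.unusedSimpArgs false
set_option linter.unusedSectionVars false

namespace Cfsg.Agent.H475.L34

open Matrix Cfsg.Agent.H691.L34

section group

variable {F : Type} [Field F]

/-- conjugation -/
def cj (g : G3 F) (X : M3 F) : M3 F := g.1 * X * (g⁻¹ : G3 F).1

theorem inv_mul' (g : G3 F) : (g⁻¹ : G3 F).1 * g.1 = 1 := by
  have h : ((g⁻¹ * g : G3 F)).1 = 1 := by rw [inv_mul_cancel]; rfl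
  exact h

theorem mul_inv' (g : G3 F) : g.1 * (g⁻¹ : G3 F).1 = 1 := by
  have h : ((g * g⁻¹ : G3 F)).1 = 1 := by rw [mul_inv_cancel]; rfl
  exact h

theorem cj_iff {g : G3 F} {X Y : M3 F} : cj g X = Y ↔ g.1 * X = Y * g.1 := by
  constructor
  · rintro rfl
    rw [cj, mul_assoc, inv_mul', mul_one]
  · intro h
    rw [cj, h, mul_assoc, mul_inv', mul_one]

theorem cj_one (X : M3 F) : cj 1 X = X := by rw [cj_iff]; simp

theorem cj_mul (g h : G3 F) (X : M3 F) : cj (g * h) X = cj g (cj h X) := by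
  rw [cj_iff]
  have h1 : h.1 * X = cj h X * h.1 := cj_iff.1 rfl
  have h2 : g.1 * cj h X = cj g (cj h X) * g.1 := cj_iff.1 rfl
  have e : (g * h).1 = g.1 * h.1 := rfl
  rw [e, mul_assoc, h1, ← mul_assoc, h2, mul_assoc]

theorem cj_add (g : G3 F) (X Y : M3 F) : cj g (X + Y) = cj g X + cj g Y := by
  rw [cj, cj, cj, mul_add, add_mul]

theorem cj_zero (g : G3 F) : cj g 0 = 0 := by rw [cj, mul_zero, zero_mul]

theorem cj_eq_zero {g : G3 F} {X : M3 F} (h : cj g X = 0) : X = 0 := by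
  have h1 : cj g⁻¹ (cj g X) = X := by rw [← cj_mul, inv_mul_cancel, cj_one]
  rw [← h1, h, cj_zero]

/-- the matrix with last column `a, b, 0` -/
def Xf (a b : F) : M3 F := !![0, 0, a; 0, 0, b; 0, 0, 0]

theorem Xf_zero : Xf (0 : F) 0 = 0 := by
  ext i j; fin_cases i <;> fin_cases j <;> rfl

/-- the embedding of `SL₂` -/
def jj (a b c d : F) (h : a * d - b * c = 1) : G3 F := ⟨!![a, b, 0; c, d, 0; 0, 0, 1], by simp [det_fin_three, h]⟩

theorem cj_jj {a b c d : F} (h : a * d - b * c = 1) (x y : F) :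
    cj (jj a b c d h) (Xf x y) = Xf (a * x + b * y) (c * x + d * y) := by
  rw [cj_iff]
  ext i j
  fin_cases i <;> fin_cases j <;> simp [jj, Xf, Matrix.mul_apply, Fin.sum_univ_three]

/-- the matrices which fix all `Xf a b` -/
def yy (a b : F) : G3 F := ⟨!![1, 0, a; 0, 1, b; 0, 0, 1], by simp [det_fin_three]⟩

theorem cj_yy (a b x y : F) : cj (yy a b) (Xf x y) = Xf x y := by
  rw [cj_iff]
  ext i j
  fin_cases i <;> fin_cases j <;> simp [yy, Xf, Matrix.mul_apply, Fin.sum_univ_three]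

/-- the scalar matrices -/
def sc (a : F) (h : a ^ 3 = 1) : G3 F := ⟨!![a, 0, 0; 0, a, 0; 0, 0, a], by
  simp [det_fin_three]; linear_combination h⟩

theorem sc_mem (a : F) (h : a ^ 3 = 1) : sc a h ∈ Subgroup.center (G3 F) := by
  rw [Subgroup.mem_center_iff]
  intro g
  apply Subtype.ext
  show g.1 * (sc a h).1 = (sc a h).1 * g.1
  ext i j
  fin_cases i <;> fin_cases j <;> simp [sc, Matrix.mul_apply, Fin.sum_univ_three, mul_comm]

/-- a triangular matrix -/
theorem tri_eq {g : G3 F} (h10 : g.1 1 0 = 0) (h20 : g.1 2 0 = 0) (h21 : g.1 2 1 = 0) (h3 : (g.1 2 2) ^ 3 = 1) :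
    ∃ (u v t a b : F) (huv : u * v = 1), g = sc (g.1 2 2) h3 * yy a b * jj 1 t 0 1 (by ring) *
      jj u 0 0 v (by linear_combination huv) := by
  have hd := g.2
  rw [det_fin_three, h10, h20, h21] at hd
  have hd' : g.1 0 0 * g.1 1 1 * g.1 2 2 = 1 := by linear_combination hd
  set f := g.1 2 2 with hfd
  have hff : f * (f * f) = 1 := by linear_combination h3
  have huv : (f * f * g.1 0 0) * (f * f * g.1 1 1) = 1 := by linear_combination (f * f * f) * hd' + h3
  refine ⟨f * f * g.1 0 0, f * f * g.1 1 1, f * f * g.1 0 1 * (f * f * g.1 0 0), f * f * g.1 0 2, f * f * g.1 1 2,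
    huv, ?_⟩
  apply Subtype.ext
  show g.1 = (sc f h3).1 * (yy _ _).1 * (jj _ _ _ _ _).1 * (jj _ _ _ _ _).1
  ext i j
  fin_cases i <;> fin_cases j <;>
    simp [sc, yy, jj, Matrix.mul_apply, Fin.sum_univ_three, h10, h20, h21, ← hfd]
  · linear_combination (-g.1 0 0) * hff
  · linear_combination (-g.1 0 1) * hff - f * f * f * g.1 0 1 * huv
  · linear_combination (-g.1 0 2) * hff
  · linear_combination (-g.1 1 1) * hff
  · linear_combination (-g.1 1 2) * hff

end group

end Cfsg.Agent.H475.L34
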