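import Cfsg.Agent.H902.L34.CR
import Cfsg.Agent.H745.L34.Adj
import Cfsg.Agent.H475.L34.Tri

/-!
# S5917, row M2: simple modules of `SL₃(4)` without a vector fixed by the Borel subgroup (helper475)
-/

set_option autoImplicit false
set_option linter.unusedSimpArgs false
set_option linter.unusedSectionVars false

namespace Cfsg.Agent.H475.L34

open Matrix Cfsg.Agent.H691.L34 Cfsg.Agent.H745.L34
open Cfsg.Agent.H902.L34 (up n1 n2 h1 DatN Dat exists_dat ScTriv Irr T1 T2 E iso_of_datN UFix)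

section model

variable (F : Type) [Field F]

/-- matrices of trace zero -/
def slA : AddSubgroup (M3 F) where
  carrier := {X | X.trace = 0}
  add_mem' := fun {a b} ha hb => by
    show (a + b).trace = 0
    rw [Matrix.trace_add, show a.trace = 0 from ha, show b.trace = 0 from hb, add_zero]
  zero_mem' := Matrix.trace_zero _ _
  neg_mem' := fun {a} ha => by
    show (-a).trace = 0
    rw [Matrix.trace_neg, show a.trace = 0 from ha, neg_zero]

variable [CharP F 2]

noncomputable instance slMod : Module (ZMod 2) (slA F) :=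
  AddCommGroup.zmodModule fun x => by
    apply Subtype.ext
    ext i j
    show ((2 • x : slA F) : M3 F) i j = 0
    rw [AddSubgroup.coe_nsmul, two_nsmul]
    exact CharTwo.add_self_eq_zero _

variable {F}

theorem cj_tr (g : G3 F) {X : M3 F} (h : X.trace = 0) : (cj g X).trace = 0 := by
  rw [cj, Matrix.trace_mul_comm, ← mul_assoc, inv_mul', one_mul, h]

/-- the action on the matrices of trace zero -/
noncomputable def ad : Representation (ZMod 2) (G3 F) (slA F) where
  toFun g := AddMonoidHom.toZModLinearMap 2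
    { toFun := fun X => (⟨cj g X.1, cj_tr g X.2⟩ : slA F)
      map_zero' := Subtype.ext (cj_zero g)
      map_add' := fun X Y => Subtype.ext (cj_add g X.1 Y.1) }
  map_one' := LinearMap.ext fun X => Subtype.ext (cj_one X.1)
  map_mul' g h := LinearMap.ext fun X => Subtype.ext (cj_mul g h X.1)

theorem ad_coe (g : G3 F) (X : slA F) : ((ad g X : slA F) : M3 F) = cj g X.1 := rfl

theorem Xf_tr (a b : F) : (Xf a b).trace = 0 := by
  simp [Xf, Matrix.trace, Fin.sum_univ_three]

theorem E_tr {i j : Fin 3} (h : i ≠ j) (a : F) : (Matrix.single i j a).trace = 0 := Matrix.trace_single_eq_of_ne i j a h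

/-- restriction -/
noncomputable def rs {V : Type} [AddCommGroup V] [Module (ZMod 2) V] (ρ : Representation (ZMod 2) (G3 F) V)
    (W : Submodule (ZMod 2) V) (hW : Inv ρ W) : Representation (ZMod 2) (G3 F) W where
  toFun g := (ρ g).restrict (hW g)
  map_one' := LinearMap.ext fun x => Subtype.ext (by
    show ρ 1 x.1 = x.1
    rw [map_one]; rfl)
  map_mul' g h := LinearMap.ext fun x => Subtype.ext (by
    show ρ (g * h) x.1 = ρ g (ρ h x.1)
    rw [map_mul]; rfl)

theorem rs_coe {V : Type} [AddCommGroup V] [Module (ZMod 2) V] (ρ : Representation (ZMod 2) (G3 F) V)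
    (W : Submodule (ZMod 2) V) (hW : Inv ρ W) (g : G3 F) (x : W) : ((rs ρ W hW g x : W) : V) = ρ g x.1 := rfl

/-- a matrix which commutes with the unitriangular matrices -/
theorem comm_U {X : M3 F} (ht : X.trace = 0) (h : ∀ a b c : F, cj (up a b c) X = X) : X = Xf (X 0 2) 0 := by
  have k1 := fun i j => congrFun (congrFun (cj_iff.1 (h 1 0 0)) i) j
  have k2 := fun i j => congrFun (congrFun (cj_iff.1 (h 0 1 0)) i) j
  have a := k1 1 1
  have b := k1 2 1
  have c := k1 0 1
  have a' := k2 0 2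
  have b' := k2 1 2
  have c' := k2 2 2
  have d' := k1 0 2
  simp [up, Matrix.mul_apply, Fin.sum_univ_three] at a b c a' b' c' d'
  rw [Matrix.trace, Fin.sum_univ_three] at ht
  simp only [Matrix.diag_apply] at ht
  have h2 : (2 : F) = 0 := CharTwo.two_eq_zero
  have e00 : X 0 0 = X 1 1 := by linear_combination -c
  have e11 : X 1 1 = X 2 2 := by linear_combination -b'
  have e22 : X 2 2 = 0 := by linear_combination ht - e00 - 2 * e11 - X 2 2 * h2
  ext i j
  fin_cases i <;> fin_cases j <;> simp [Xf, *]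

theorem cj_up (a b c x : F) : cj (up a b c) (Xf x 0) = Xf x 0 := by
  rw [cj_iff]
  ext i j
  fin_cases i <;> fin_cases j <;> simp [up, Xf, Matrix.mul_apply, Fin.sum_univ_three]

theorem cj_h1 (u : Fˣ) (x y : F) : cj (h1 u) (Xf x y) = Xf (u * x) ((u : F)⁻¹ * y) := by
  rw [cj_iff]
  ext i j
  fin_cases i <;> fin_cases j <;> simp [h1, Xf, Matrix.mul_apply, Fin.sum_univ_three]

theorem cj_n1 (X : M3 F) : cj n1 X = !![X 1 1, X 1 0, X 1 2; X 0 1, X 0 0, X 0 2; X 2 1, X 2 0, X 2 2] := by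
  rw [cj_iff]
  ext i j
  fin_cases i <;> fin_cases j <;> simp [n1, Matrix.mul_apply, Fin.sum_univ_three]

theorem cj_n2 (X : M3 F) : cj n2 X = !![X 0 0, X 0 2, X 0 1; X 2 0, X 2 2, X 2 1; X 1 0, X 1 2, X 1 1] := by
  rw [cj_iff]
  ext i j
  fin_cases i <;> fin_cases j <;> simp [n2, Matrix.mul_apply, Fin.sum_univ_three]

/-- a subgroup of the matrices, closed under conjugation, which contains `E₀₂` times a unit -/
theorem all_mem {S : AddSubgroup (M3 F)} (hS : ∀ g X, X ∈ S → cj g X ∈ S) {x : F} (hx : x ≠ 0) (h0 : Xf x 0 ∈ S)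
    {X : M3 F} (ht : X.trace = 0) : X ∈ S := by
  have h2 : (2 : F) = 0 := CharTwo.two_eq_zero
  have e02 : ∀ a : F, Xf a 0 ∈ S := by
    intro a
    by_cases ha : a = 0
    · rw [ha, Xf_zero]; exact S.zero_mem
    · have h := hS (h1 (Units.mk0 (a / x) (div_ne_zero ha hx))) _ h0
      rw [cj_h1] at h
      simpa [hx] using h
  have e12 : ∀ a : F, (!![0, 0, 0; 0, 0, a; 0, 0, 0] : M3 F) ∈ S := fun a => by
    have h := hS n1 _ (e02 a)
    rw [cj_n1] at h
    simpa [Xf] using h
  have e01 : ∀ a : F, (!![0, a, 0; 0, 0, 0; 0, 0, 0] : M3 F) ∈ S := fun a => by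
    have h := hS n2 _ (e02 a)
    rw [cj_n2] at h
    simpa [Xf] using h
  have e10 : ∀ a : F, (!![0, 0, 0; a, 0, 0; 0, 0, 0] : M3 F) ∈ S := fun a => by
    have h := hS n1 _ (e01 a)
    rw [cj_n1] at h
    simpa using h
  have e21 : ∀ a : F, (!![0, 0, 0; 0, 0, 0; 0, a, 0] : M3 F) ∈ S := fun a => by
    have h := hS n2 _ (e12 a)
    rw [cj_n2] at h
    simpa using h
  have e20 : ∀ a : F, (!![0, 0, 0; 0, 0, 0; a, 0, 0] : M3 F) ∈ S := fun a => by
    have h := hS n1 _ (e21 a)
    rw [cj_n1] at h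
    simpa using h
  have d01 : ∀ a : F, (!![a, 0, 0; 0, a, 0; 0, 0, 0] : M3 F) ∈ S := fun a => by
    have h := hS (up 1 0 0) _ (e10 a)
    have hc : cj (up 1 0 0) (!![0, 0, 0; a, 0, 0; 0, 0, 0] : M3 F) = !![a, a, 0; a, a, 0; 0, 0, 0] := by
      rw [cj_iff]
      ext i j
      fin_cases i <;> fin_cases j <;> simp [up, Matrix.mul_apply, Fin.sum_univ_three, CharTwo.add_self_eq_zero]
    rw [hc] at h
    have h3 := S.sub_mem (S.sub_mem h (e10 a)) (e01 a)
    have h4 : (!![a, a, 0; a, a, 0; 0, 0, 0] : M3 F) - !![0, 0, 0; a, 0, 0; 0, 0, 0] - !![0, a, 0; 0, 0, 0; 0, 0, 0] =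
        !![a, 0, 0; 0, a, 0; 0, 0, 0] := by
      ext i j
      fin_cases i <;> fin_cases j <;> simp
    rwa [h4] at h3
  have d12 : ∀ a : F, (!![0, 0, 0; 0, a, 0; 0, 0, a] : M3 F) ∈ S := fun a => by
    have h := hS (up 0 1 0) _ (e21 a)
    have hc : cj (up 0 1 0) (!![0, 0, 0; 0, 0, 0; 0, a, 0] : M3 F) = !![0, 0, 0; 0, a, a; 0, a, a] := by
      rw [cj_iff]
      ext i j
      fin_cases i <;> fin_cases j <;> simp [up, Matrix.mul_apply, Fin.sum_univ_three, CharTwo.add_self_eq_zero]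
    rw [hc] at h
    have h3 := S.sub_mem (S.sub_mem h (e21 a)) (e12 a)
    have h4 : (!![0, 0, 0; 0, a, a; 0, a, a] : M3 F) - !![0, 0, 0; 0, 0, 0; 0, a, 0] - !![0, 0, 0; 0, 0, a; 0, 0, 0] =
        !![0, 0, 0; 0, a, 0; 0, 0, a] := by
      ext i j
      fin_cases i <;> fin_cases j <;> simp
    rwa [h4] at h3
  rw [Matrix.trace, Fin.sum_univ_three] at ht
  simp only [Matrix.diag_apply] at ht
  have hX : X = Xf (X 0 2) 0 + !![0, 0, 0; 0, 0, X 1 2; 0, 0, 0] + !![0, X 0 1, 0; 0, 0, 0; 0, 0, 0] +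
      !![0, 0, 0; X 1 0, 0, 0; 0, 0, 0] + !![0, 0, 0; 0, 0, 0; 0, X 2 1, 0] + !![0, 0, 0; 0, 0, 0; X 2 0, 0, 0] +
      !![X 0 0, 0, 0; 0, X 0 0, 0; 0, 0, 0] + !![0, 0, 0; 0, X 0 0 + X 1 1, 0; 0, 0, X 0 0 + X 1 1] := by
    ext i j
    fin_cases i <;> fin_cases j <;> simp [Xf]
    · linear_combination -(X 0 0) * h2
    · linear_combination ht - (X 0 0 + X 1 1) * h2
  rw [hX]
  exact S.add_mem (S.add_mem (S.add_mem (S.add_mem (S.add_mem (S.add_mem (S.add_mem (e02 _) (e12 _)) (e01 _)) (e10 _))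
    (e21 _)) (e20 _)) (d01 _)) (d12 _)

end model

section main

variable {F : Type} [Field F] [CharP F 2] [Fintype F] [DecidableEq F]

instance slFin : Finite (slA F) := Subtype.finite

theorem ad_irr : Irr (ad : Representation (ZMod 2) (G3 F) (slA F)) := by
  intro W hW
  by_cases hb : W = ⊥
  · exact Or.inl hb
  right
  have : Nontrivial W := (Submodule.nontrivial_iff_ne_bot).2 hb
  obtain ⟨y, hy, hfix⟩ := Cfsg.Agent.H902.L34.exists_fix (rs ad W hW) (Cfsg.Agent.H902.L34.Up F)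
    Cfsg.Agent.H902.L34.isPGroup_Up
  have h1 : ∀ a b c : F, cj (up a b c) y.1.1 = y.1.1 := fun a b c => by
    have h := hfix (up a b c) ⟨a, b, c, rfl⟩
    exact congrArg (fun z : W => z.1.1) h
  have h2 := comm_U y.1.2 h1
  have hx : y.1.1 0 2 ≠ 0 := by
    intro h0
    rw [h0, Xf_zero] at h2
    exact hy (Subtype.ext (Subtype.ext h2))
  let S : AddSubgroup (M3 F) := W.toAddSubgroup.map (slA F).subtype
  have hS : ∀ g X, X ∈ S → cj g X ∈ S := by
    rintro g _ ⟨x, hxW, rfl⟩
    exact ⟨ad g x, hW g x hxW, rfl⟩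
  have h0 : Xf (y.1.1 0 2) 0 ∈ S := by
    rw [← h2]
    exact ⟨y.1, y.2, rfl⟩
  rw [eq_top_iff]
  intro x _
  obtain ⟨z, hz, hzx⟩ := all_mem hS hx h0 x.2
  have : z = x := Subtype.ext hzx
  rw [← this]
  exact hz

/-- the highest weight vector -/
def y0 : slA F := ⟨Xf 1 0, Xf_tr 1 0⟩

theorem coe_sum (ι : Type) (s : Finset ι) (f : ι → slA F) : ((∑ i ∈ s, f i : slA F) : M3 F) = ∑ i ∈ s, (f i : M3 F) :=
  map_sum (slA F).subtype f s

theorem ad_dat (hF : Fintype.card F = 4) : DatN (ad : Representation (ZMod 2) (G3 F) (slA F)) y0 := by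
  have hs1 : ∑ a : F, a = 0 := by
    have h := FiniteField.sum_pow_lt_card_sub_one F 1 (by rw [hF]; norm_num)
    simpa using h
  have hsu : ∑ d : Fˣ, (d : F) = 0 := by
    have h := FiniteField.sum_pow_units F 1
    rw [hF] at h
    simpa using h
  refine ⟨?_, ?_, ?_, ?_, ?_⟩
  · intro h
    have h1 := congrArg (fun x : slA F => x.1 0 2) h
    have h2 : (1 : F) = 0 := by simpa [y0, Xf] using h1
    exact one_ne_zero h2
  · intro a b c
    exact Subtype.ext (cj_up a b c 1)
  · rw [Cfsg.Agent.H902.L34.E_apply]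
    apply Subtype.ext
    rw [coe_sum]
    have h : ∀ d : Fˣ, ((ad (h1 d) y0 : slA F) : M3 F) = Xf (d : F) 0 := fun d => by
      rw [ad_coe]
      show cj (h1 d) (Xf 1 0) = _
      rw [cj_h1, mul_one, mul_zero]
    simp only [h]
    ext i j
    rw [Matrix.sum_apply]
    fin_cases i <;> fin_cases j <;> simp [Xf, hsu]
  · rw [Cfsg.Agent.H902.L34.T1_apply]
    apply Subtype.ext
    rw [coe_sum]
    have h : ∀ a : F, ((ad (up a 0 0 * n1) y0 : slA F) : M3 F) = Xf a 1 := fun a => by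
      rw [ad_coe]
      show cj (up a 0 0 * n1) (Xf 1 0) = _
      rw [cj_iff]
      show (up a 0 0).1 * (n1 : G3 F).1 * _ = _ * ((up a 0 0).1 * (n1 : G3 F).1)
      ext i j
      fin_cases i <;> fin_cases j <;> simp [up, n1, Xf, Matrix.mul_apply, Fin.sum_univ_three]
    simp only [h]
    ext i j
    rw [Matrix.sum_apply]
    fin_cases i <;> fin_cases j <;> simp [Xf, hs1]
  · rw [Cfsg.Agent.H902.L34.T2_apply]
    apply Subtype.ext
    rw [coe_sum]
    have h : ∀ a : F, ((ad (up 0 a 0 * n2) y0 : slA F) : M3 F) = !![0, 1, a; 0, 0, 0; 0, 0, 0] := fun a => by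
      rw [ad_coe]
      show cj (up 0 a 0 * n2) (Xf 1 0) = _
      rw [cj_iff]
      show (up 0 a 0).1 * (n2 : G3 F).1 * _ = _ * ((up 0 a 0).1 * (n2 : G3 F).1)
      ext i j
      fin_cases i <;> fin_cases j <;>
        simp [up, n2, Xf, Matrix.mul_apply, Fin.sum_univ_three, CharTwo.add_self_eq_zero]
    simp only [h]
    ext i j
    rw [Matrix.sum_apply]
    fin_cases i <;> fin_cases j <;> simp [hs1]

theorem scTriv {V : Type} [AddCommGroup V] [Module (ZMod 2) V] {ρ : Representation (ZMod 2) (G3 F) V} (hc : CT ρ) :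
    ScTriv ρ := by
  intro a h y
  refine hc _ ?_ y
  rw [Subgroup.mem_center_iff]
  intro g
  apply Subtype.ext
  show g.1 * (Cfsg.Agent.H902.L34.sc a h).1 = (Cfsg.Agent.H902.L34.sc a h).1 * g.1
  ext i j
  fin_cases i <;> fin_cases j <;>
    simp [Cfsg.Agent.H902.L34.sc, Matrix.mul_apply, Fin.sum_univ_three, mul_comm]

theorem ad_sc : ScTriv (ad : Representation (ZMod 2) (G3 F) (slA F)) := by
  intro a h y
  apply Subtype.ext
  rw [ad_coe, cj_iff]
  ext i j
  fin_cases i <;> fin_cases j <;>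
    simp [Cfsg.Agent.H902.L34.sc, Matrix.mul_apply, Fin.sum_univ_three, mul_comm]

variable {V : Type} [AddCommGroup V] [Module (ZMod 2) V] [Module.Finite (ZMod 2) V]
  {ρ : Representation (ZMod 2) (G3 F) V}

/-- a vector fixed by the torus and the unitriangular group -/
theorem borel_fix (hF : Fintype.card F = 4) (hc : CT ρ) {y : V} (hy : ∀ a b c, ρ (up a b c) y = y)
    (ht : ∀ d : Fˣ, ρ (h1 d) y = y) (g : G3 F) (h10 : g.1 1 0 = 0) (h20 : g.1 2 0 = 0) (h21 : g.1 2 1 = 0) :
    ρ g y = y := by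
  have hf : g.1 2 2 ≠ 0 := by
    intro h
    have hd := g.2
    rw [det_fin_three, h10, h20, h21, h] at hd
    simp at hd
  obtain ⟨u, v, t, a, b, huv, hg⟩ := tri_eq h10 h20 h21 (pow3 hF hf)
  have e1 : yy a b = up 0 b a := by
    apply Subtype.ext; ext i j; fin_cases i <;> fin_cases j <;> rfl
  have e2 : jj 1 t 0 1 (by ring) = up t 0 0 := by
    apply Subtype.ext; ext i j; fin_cases i <;> fin_cases j <;> rfl
  have e3 : jj u 0 0 v (by linear_combination huv) = h1 (Units.mkOfMulEqOne u v huv) := by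
    have hv : v = u⁻¹ := eq_inv_of_mul_eq_one_right huv
    apply Subtype.ext; ext i j; fin_cases i <;> fin_cases j <;> simp [jj, h1, hv]
  have r : ∀ (g h : G3 F) (z : V), ρ (g * h) z = ρ g (ρ h z) := fun g h z => by rw [map_mul]; rfl
  rw [hg, e1, e2, e3, r, r, r, ht, hy, hy]
  exact hc _ (sc_mem _ _) _

end main

section final

variable {F : Type} [Field F] [Fintype F] {V : Type} [AddCommGroup V] [Module (ZMod 2) V] [Module.Finite (ZMod 2) V]
  {ρ : Representation (ZMod 2) (G3 F) V}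

/-- **M2** : a simple submodule without a vector fixed by the Borel subgroup is the adjoint module -/
theorem is_adj (hF : Fintype.card F = 4) (hc : CT ρ) {W : Submodule (ZMod 2) V} (hW : Simp ρ W)
    (hB : ∀ w ∈ W, (∀ g : G3 F, g.1 1 0 = 0 → g.1 2 0 = 0 → g.1 2 1 = 0 → ρ g w = w) → w = 0) : IsAdj ρ W := by
  classical
  have : CharP F 2 := (CharP.charP_iff_prime_eq_zero Nat.prime_two).2 (by exact_mod_cast two0 hF)
  have : Finite V := Module.finite_of_finite (ZMod 2)
  have hnt : Nontrivial W := (Submodule.nontrivial_iff_ne_bot).2 hW.2.1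
  set σ := rs ρ W hW.1 with hσ
  have hs : ScTriv σ := fun a h y => Subtype.ext (scTriv hc a h y.1)
  have hirr : Irr σ := by
    intro X hX
    rcases hW.2.2 (X.map W.subtype) (by
        rintro g _ ⟨x, hx, rfl⟩
        exact ⟨σ g x, hX g x hx, rfl⟩) (Submodule.map_subtype_le W X) with h | h
    · left
      rw [eq_bot_iff]
      intro x hx
      have h3 : (x : V) ∈ X.map W.subtype := ⟨x, hx, rfl⟩
      rw [h, Submodule.mem_bot] at h3
      rw [Submodule.mem_bot]
      exact Subtype.ext h3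
    · right
      rw [eq_top_iff]
      intro x _
      have h3 : (x : V) ∈ X.map W.subtype := by rw [h]; exact x.2
      obtain ⟨z, hz, hzx⟩ := h3
      have : z = x := Subtype.ext hzx
      rw [← this]
      exact hz
  rcases exists_dat σ hF hs with ⟨y, a, b, hy⟩ | ⟨y, hy⟩
  · exfalso
    apply hy.ne
    apply Subtype.ext
    refine hB y.1 y.2 fun g h10 h20 h21 => ?_
    exact borel_fix hF hc (fun a b c => congrArg Subtype.val (hy.fix a b c)) (fun d => congrArg Subtype.val (hy.tor d))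
      g h10 h20 h21
  · obtain ⟨e, -, he⟩ := iso_of_datN hF ad_sc hs ad_irr hirr (ad_dat hF) hy
    refine ⟨fun X => if h : X.trace = 0 then (e (⟨X, h⟩ : slA F) : V) else 0, ?_, ?_, ?_, ?_⟩
    · intro X Y hX hY
      have hXY : (X + Y).trace = 0 := by rw [Matrix.trace_add, hX, hY, add_zero]
      simp only [dif_pos hX, dif_pos hY, dif_pos hXY]
      rw [← Submodule.coe_add, ← map_add]
      rfl
    · intro X hX h
      simp only [dif_pos hX] at h
      have h1 : e (⟨X, hX⟩ : slA F) = 0 := Subtype.ext h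
      rw [e.map_eq_zero_iff] at h1
      exact congrArg Subtype.val h1
    · intro v
      constructor
      · intro hv
        refine ⟨(e.symm ⟨v, hv⟩).1, (e.symm ⟨v, hv⟩).2, ?_⟩
        have ht : (e.symm ⟨v, hv⟩).1.trace = 0 := (e.symm ⟨v, hv⟩).2
        simp only [dif_pos ht]
        have h1 : (⟨(e.symm ⟨v, hv⟩).1, ht⟩ : slA F) = e.symm ⟨v, hv⟩ := rfl
        rw [h1, e.apply_symm_apply]
      · rintro ⟨X, hX, rfl⟩
        simp only [dif_pos hX]
        exact (e (⟨X, hX⟩ : slA F)).2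
    · intro g X hX
      have ht : (g.1 * X * (g⁻¹ : G3 F).1).trace = 0 := cj_tr g hX
      simp only [dif_pos hX, dif_pos ht]
      have h1 := he g (⟨X, hX⟩ : slA F)
      have h2 : ad g (⟨X, hX⟩ : slA F) = ⟨g.1 * X * (g⁻¹ : G3 F).1, ht⟩ := rfl
      rw [h2] at h1
      rw [h1]
      rfl

/-- **M2** (statement of the stub `simp_16`) -/
theorem simp_16 (hF : Fintype.card F = 4) (hc : CT ρ) {W : Submodule (ZMod 2) V} (hW : Simp ρ W)
    (hB : ∀ w ∈ W, (∀ g : G3 F, g.1 1 0 = 0 → g.1 2 0 = 0 → g.1 2 1 = 0 → ρ g w = w) → w = 0) : Is16 ρ W :=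
  adj_dims hF (is_adj hF hc hW hB)

end final

end Cfsg.Agent.H475.L34
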